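import Groth.Agent.SmSrc.Basic
/-!
Finite presentation descends along faithfully flat smooth ring maps on the source.
-/

universe u

open TensorProduct

namespace Groth.Agent.EtDescent

set_option synthInstance.maxHeartbeats 200000 in
/-- Finite presentation descends along faithfully flat smooth maps on the source. -/
theorem finitePresentation_of_smooth (A B C : Type u) [CommRing A] [CommRing B] [CommRing C]
    [Algebra A B] [Algebra B C] [Algebra A C] [IsScalarTower A B C] [Algebra.Smooth B C]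
    [Module.FaithfullyFlat B C] [Algebra.FinitePresentation A C] :
    Algebra.FinitePresentation A B := by
  classical
  haveI := finiteType_of_smooth A B C
  obtain ⟨B₁, C₀, _, _, hB₁, _, ⟨e⟩⟩ := Algebra.Smooth.exists_subalgebra_fg ℤ B C
  haveI : Algebra.FiniteType ℤ B₁ := (Subalgebra.fg_iff_finiteType B₁).1 hB₁
  obtain ⟨I, hI⟩ := exists_ideal_compl_range' B₁ C₀
  obtain ⟨k, f, hf⟩ := Algebra.FiniteType.iff_quotient_mvPolynomial''.1 ‹Algebra.FiniteType A B›
  obtain ⟨l, g, hg⟩ := Algebra.FiniteType.iff_quotient_mvPolynomial''.1 ‹Algebra.FiniteType ℤ B₁›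
  choose tilde htilde using hf
  let φ : MvPolynomial (Fin l) ℤ →+* MvPolynomial (Fin k) A :=
    (MvPolynomial.aeval fun i => tilde ((g (MvPolynomial.X i) : B₁) : B)).toRingHom
  have hφ : f.toRingHom.comp φ = B₁.val.toRingHom.comp g.toRingHom :=
    MvPolynomial.ringHom_ext (fun r => by simp) fun i => by simp [φ, htilde]
  obtain ⟨rels, hrels⟩ := IsNoetherian.noetherian (RingHom.ker g.toRingHom)
  let K' : Ideal (MvPolynomial (Fin k) A) := Ideal.span (φ '' (rels : Set (MvPolynomial (Fin l) ℤ)))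
  have hK'fg : K'.FG := Submodule.fg_span (rels.finite_toSet.image _)
  have hK'le : K' ≤ RingHom.ker f.toRingHom := by
    rw [Ideal.span_le]; rintro _ ⟨q, hq, rfl⟩
    have hq' : g q = 0 := by
      have h' : q ∈ RingHom.ker g.toRingHom := hrels ▸ Ideal.subset_span hq
      exact h'
    change f (φ q) = 0
    have := RingHom.congr_fun hφ q
    simp only [RingHom.comp_apply, AlgHom.toRingHom_eq_coe, RingHom.coe_coe] at this
    rw [this, hq']; simp
  let ψ : B₁ →+* MvPolynomial (Fin k) A ⧸ K' :=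
    RingHom.liftOfRightInverse g.toRingHom (Function.surjInv hg) (Function.rightInverse_surjInv hg)
      ⟨(Ideal.Quotient.mk K').comp φ, by
        intro q hq
        rw [RingHom.mem_ker, RingHom.comp_apply, Ideal.Quotient.eq_zero_iff_mem]
        exact (Ideal.map_le_iff_le_comap.1 (le_of_eq
          (by rw [← hrels, Ideal.map_span] : (RingHom.ker g.toRingHom).map φ = K'))) hq⟩
  have hψ : ∀ q, ψ (g q) = Ideal.Quotient.mk K' (φ q) := fun q =>
    RingHom.liftOfRightInverse_comp_apply g.toRingHom (Function.surjInv hg)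
      (Function.rightInverse_surjInv hg) _ q
  letI : Algebra B₁ (MvPolynomial (Fin k) A ⧸ K') := ψ.toAlgebra
  let π : MvPolynomial (Fin k) A ⧸ K' →ₐ[A] B := Ideal.Quotient.liftₐ K' f fun x hx => hK'le hx
  have hπ : ∀ r : B₁, π (algebraMap B₁ (MvPolynomial (Fin k) A ⧸ K') r) = (r : B) := by
    intro r
    obtain ⟨q, rfl⟩ := hg r
    change π (ψ (g q)) = _
    rw [hψ]
    exact RingHom.congr_fun hφ q
  haveI hP'fp : Algebra.FinitePresentation A (MvPolynomial (Fin k) A ⧸ K') :=
    Algebra.FinitePresentation.quotient hK'fg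
  let P := MvPolynomial (Fin k) A ⧸ K'
  let πB : P →ₐ[B₁] B := { π.toRingHom with commutes' := hπ }
  have hπsurj : Function.Surjective πB := fun b => ⟨Ideal.Quotient.mk K' (tilde b), htilde b⟩
  let D := P ⊗[B₁] C₀
  haveI : Algebra.FinitePresentation A D := Algebra.FinitePresentation.trans A P D
  let Pr : D →ₐ[A] C := AlgHom.comp ((e.symm : B ⊗[B₁] C₀ →ₐ[B] C).restrictScalars A)
    { (Algebra.TensorProduct.map πB (AlgHom.id B₁ C₀)).toRingHom with
      commutes' := fun r => by
        change πB (algebraMap A P r) ⊗ₜ[B₁] (1 : C₀) = algebraMap A B r ⊗ₜ[B₁] 1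
        rw [show πB (algebraMap A P r) = algebraMap A B r from π.commutes r] }
  have hPr : ∀ z, Pr z = e.symm (Algebra.TensorProduct.map πB (AlgHom.id B₁ C₀) z) := fun z => rfl
  have hPrsurj : Function.Surjective Pr := e.symm.surjective.comp
    (LinearMap.rTensor_surjective C₀ (g := πB.toLinearMap) hπsurj)
  obtain ⟨gens, hgens⟩ := Algebra.FinitePresentation.ker_fG_of_surjective (R := A) (A := D) (B := C) Pr hPrsurj
  have hmemK : ∀ z, z ∈ RingHom.ker Pr.toRingHom →
      z ∈ (RingHom.ker πB).map (Algebra.TensorProduct.includeLeft : P →ₐ[B₁] D) := by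
    intro z hz
    rw [← Algebra.TensorProduct.rTensor_ker (C := C₀) πB hπsurj]
    have h' : Pr z = 0 := hz
    rw [hPr] at h'
    exact (map_eq_zero_iff _ e.symm.injective).1 h'
  have hspan : ∀ z, z ∈ RingHom.ker Pr.toRingHom → ∃ T : Finset P, (T : Set P) ⊆ RingHom.ker πB ∧
      z ∈ (Ideal.span (T : Set P)).map (Algebra.TensorProduct.includeLeft : P →ₐ[B₁] D) := by
    intro z hz
    obtain ⟨T, hT, hzT⟩ := Submodule.mem_span_finite_of_mem_span (hmemK z hz)
    obtain ⟨T', hT', hTT'⟩ := Finset.subset_set_image_iff.1 hT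
    refine ⟨T', hT', ?_⟩
    rw [Ideal.map_span]
    refine Ideal.span_mono ?_ hzT
    rw [← hTT', Finset.coe_image]
  choose T hT hTz using hspan
  -- a lift of a partition of unity for `I`
  have hIB : I.map (algebraMap B₁ B) = ⊤ := by
    apply Ideal.map_injective_of_faithfullyFlat (A := B) (B := C)
    change (I.map (algebraMap B₁ B)).map (algebraMap B C) = (⊤ : Ideal B).map (algebraMap B C)
    rw [Ideal.map_top, Ideal.map_map, eq_top_iff]
    calc (⊤ : Ideal C) = ((I.map (algebraMap B₁ C₀)).map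
          ((e.symm : B ⊗[B₁] C₀ →ₐ[B] C).toRingHom.comp Algebra.TensorProduct.includeRight.toRingHom)) := by
            rw [map_compl_range_eq_top hI, Ideal.map_top]
      _ ≤ _ := by
        rw [Ideal.map_map]
        refine le_of_eq (congrArg (fun f => Ideal.map f I) (RingHom.ext fun r => ?_))
        have : (1 : B) ⊗ₜ[B₁] (algebraMap B₁ C₀ r) = algebraMap B₁ B r ⊗ₜ[B₁] (1 : C₀) := by
          rw [Algebra.algebraMap_eq_smul_one, Algebra.algebraMap_eq_smul_one, tmul_smul, smul_tmul']
        simp only [RingHom.comp_apply, AlgHom.toRingHom_eq_coe, RingHom.coe_coe,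
          Algebra.TensorProduct.includeRight_apply, this]
        exact (e.symm : B ⊗[B₁] C₀ →ₐ[B] C).commutes (algebraMap B₁ B r)
  obtain ⟨k0, hk0, hk0'⟩ : ∃ k0 : P, πB k0 = 0 ∧ 1 - k0 ∈ I.map (algebraMap B₁ P) := by
    have h1 : (1 : B) ∈ (I.map (algebraMap B₁ P)).map πB.toRingHom := by
      rw [Ideal.map_map, show (πB.toRingHom).comp (algebraMap B₁ P) = algebraMap B₁ B from
        RingHom.ext πB.commutes, hIB]
      trivial
    obtain ⟨w, hw, hw'⟩ := (Ideal.mem_map_iff_of_surjective πB.toRingHom hπsurj).1 h1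
    exact ⟨1 - w, by simp [show πB w = 1 from hw'], by simpa using hw⟩
  let K'' : Ideal P := Ideal.span ((gens.attach.biUnion fun z => T z.1
    (hgens ▸ Ideal.subset_span z.2) : Finset P) ∪ {k0} : Set P)
  have hK''fg : K''.FG := Submodule.fg_span ((Finset.finite_toSet _).union (Set.finite_singleton _))
  suffices hK : RingHom.ker πB = K'' by
    refine Algebra.FinitePresentation.of_surjective (f := π) hπsurj ?_
    change (RingHom.ker πB).FG
    rw [hK]; exact hK''fg
  refine le_antisymm (fun m hm => ?_) ?_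
  · have hK''D : RingHom.ker Pr.toRingHom ≤ K''.map (Algebra.TensorProduct.includeLeft : P →ₐ[B₁] D) := by
      rw [← hgens, Ideal.span_le]
      intro z hz
      refine Ideal.map_mono ?_ (hTz z (hgens ▸ Ideal.subset_span hz))
      refine Ideal.span_le.2 fun p hp => Ideal.subset_span (Or.inl ?_)
      simp only [Finset.coe_biUnion, Set.mem_iUnion]
      exact ⟨⟨z, hz⟩, Finset.mem_attach _ _, hp⟩
    have hm' : m ⊗ₜ[B₁] (1 : C₀) ∈ K''.map (Algebra.TensorProduct.includeLeft : P →ₐ[B₁] D) := by
      apply hK''D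
      change Pr (m ⊗ₜ[B₁] (1 : C₀)) = 0
      rw [hPr, Algebra.TensorProduct.map_tmul, show πB m = 0 from hm, zero_tmul, map_zero]
    have h0 : Algebra.TensorProduct.map (Ideal.Quotient.mkₐ B₁ K'') (AlgHom.id B₁ C₀) (m ⊗ₜ[B₁] (1 : C₀)) = 0 := by
      have hle : K''.map (Algebra.TensorProduct.includeLeft : P →ₐ[B₁] D) ≤
          RingHom.ker (Algebra.TensorProduct.map (Ideal.Quotient.mkₐ B₁ K'') (AlgHom.id B₁ C₀)) := by
        rw [Ideal.map_le_iff_le_comap]
        intro p hp
        rw [Ideal.mem_comap, RingHom.mem_ker, Algebra.TensorProduct.includeLeft_apply,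
          Algebra.TensorProduct.map_tmul, show Ideal.Quotient.mkₐ B₁ K'' p = 0 from
            Ideal.Quotient.eq_zero_iff_mem.2 hp, zero_tmul]
      exact hle hm'
    have hIQ : Ideal.map ((Ideal.Quotient.mk K'').comp (algebraMap B₁ P)) I = ⊤ := by
      rw [Ideal.eq_top_iff_one]
      have h1 := Ideal.mem_map_of_mem (Ideal.Quotient.mk K'') hk0'
      rw [map_sub, map_one, show Ideal.Quotient.mk K'' k0 = 0 from Ideal.Quotient.eq_zero_iff_mem.2
        (Ideal.subset_span (Or.inr rfl)), sub_zero, Ideal.map_map] at h1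
      exact h1
    refine Ideal.Quotient.eq_zero_iff_mem.1
      (eq_zero_of_one_tmul_eq_zero (S := (P ⧸ K'')) (C₀ := C₀) hI (by exact hIQ) (Ideal.Quotient.mk K'' m) ?_)
    have := congrArg (TensorProduct.comm B₁ (P ⧸ K'') C₀) h0
    simpa using this
  · rw [Ideal.span_le]
    rintro p (hp | rfl)
    · simp only [Finset.coe_biUnion, Set.mem_iUnion] at hp
      obtain ⟨z, -, hp⟩ := hp
      exact hT _ _ hp
    · exact hk0

end Groth.Agent.EtDescent
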