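import Groth.Agent.SmSrc.Lift
import Groth.Agent.SmSrc.FinPres
import Mathlib.RingTheory.Etale.Kaehler
import Mathlib.Algebra.Module.Projective
/-!
Flatness, finite type, finite presentation and smoothness descend along surjective smooth morphisms
on the source.
-/

set_option backward.isDefEq.respectTransparency.types false

universe u

open TensorProduct CategoryTheory AlgebraicGeometry

namespace Groth.Agent.EtDescent

theorem subsingleton_tensor_h1Cotangent (A B C : Type u) [CommRing A] [CommRing B] [CommRing C]
    [Algebra A B] [Algebra B C] [Algebra A C] [IsScalarTower A B C] [Algebra.IsStandardSmooth B C]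
    [Algebra.Smooth A C] : Subsingleton (C ⊗[B] Algebra.H1Cotangent A B) := by
  let P : Algebra.Extension A B := (Algebra.Generators.self A B).toExtension
  letI : Algebra P.Ring C := ((algebraMap B C).comp (algebraMap P.Ring B)).toAlgebra
  haveI : IsScalarTower P.Ring B C := .of_algebraMap_eq' rfl
  haveI : IsScalarTower A P.Ring C := .of_algebraMap_eq fun a => by
    rw [IsScalarTower.algebraMap_apply A B C, IsScalarTower.algebraMap_apply A P.Ring B]
    rfl
  obtain ⟨Q, _, _, φ, hSm, hsurj, hker⟩ := exists_smooth_lift P.Ring B C P.algebraMap_surjective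
  letI : Algebra A Q := ((algebraMap P.Ring Q).comp (algebraMap A P.Ring)).toAlgebra
  haveI : IsScalarTower A P.Ring Q := .of_algebraMap_eq' rfl
  let E : Algebra.Extension A C := .ofSurjective (φ.restrictScalars A) hsurj
  let f : P.Hom E :=
    { toRingHom := algebraMap P.Ring Q
      toRingHom_algebraMap x := rfl
      algebraMap_toRingHom x := φ.commutes x }
  haveI : Algebra.FormallySmooth A P.Ring := by
    change Algebra.FormallySmooth A (MvPolynomial B A)
    infer_instance
  haveI : Algebra.FormallySmooth A E.Ring := .comp A P.Ring Q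
  letI : Algebra P.Ring E.Ring := (inferInstance : Algebra P.Ring Q)
  haveI : Module.Flat P.Ring Q := inferInstance
  haveI : Module.Flat P.Ring E.Ring := (inferInstance : Module.Flat P.Ring Q)
  have H₂ : Function.Bijective ((f.mapKer rfl).liftBaseChange E.Ring) := by
    constructor
    · intro x y hxy
      apply (Module.Flat.lTensor_preserves_injective_linearMap (M := E.Ring) (Submodule.subtype P.ker) Subtype.val_injective)
      apply (TensorProduct.rid P.Ring E.Ring).injective
      have key : ∀ z : E.Ring ⊗[P.Ring] P.ker, TensorProduct.rid P.Ring E.Ring ((Submodule.subtype P.ker).lTensor E.Ring z) =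
          E.ker.subtype ((f.mapKer rfl).liftBaseChange E.Ring z) := by
        intro z
        induction z using TensorProduct.induction_on with
        | zero => simp only [map_zero]
        | tmul q a =>
          simp only [LinearMap.lTensor_tmul, TensorProduct.rid_tmul, LinearMap.liftBaseChange_tmul]
          rw [Algebra.smul_def, mul_comm]
          rfl
        | add a b ha hb => simp only [map_add, ha, hb]
      rw [key, key]
      exact congrArg Subtype.val hxy
    · rintro ⟨q, hq⟩
      have hq' : q ∈ (P.ker).map (algebraMap P.Ring Q) := hker.le hq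
      induction hq' using Submodule.span_induction with
      | mem q hq' =>
        obtain ⟨a, ha, rfl⟩ := hq'
        refine ⟨(1 : E.Ring) ⊗ₜ ⟨a, ha⟩, Subtype.ext ?_⟩
        rw [LinearMap.liftBaseChange_tmul, one_smul]
        rfl
      | zero => exact ⟨0, map_zero _⟩
      | add a b ha hb iha ihb =>
        obtain ⟨x, hx⟩ := iha (hker.ge ha)
        obtain ⟨y, hy⟩ := ihb (hker.ge hb)
        exact ⟨x + y, Subtype.ext (by rw [map_add, hx, hy]; rfl)⟩
      | smul r a ha iha =>
        obtain ⟨x, hx⟩ := iha (hker.ge ha)
        exact ⟨(show E.Ring from r) • x, Subtype.ext (by rw [map_smul, hx]; rfl)⟩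
  haveI : Subsingleton E.H1Cotangent :=
    (Algebra.Extension.equivH1CotangentOfFormallySmooth E).toEquiv.subsingleton
  refine subsingleton_iff.2 fun x y => sub_eq_zero.1 ?_
  apply Module.Flat.lTensor_preserves_injective_linearMap _ Algebra.Extension.h1Cotangentι_injective
  apply (Algebra.Extension.tensorCotangent f rfl H₂).injective
  simp only [map_zero]
  have e : ((Algebra.Extension.Cotangent.map f).liftBaseChange C) ∘ₗ
      (Algebra.Extension.h1Cotangentι (P := P)).baseChange C =
      Algebra.Extension.h1Cotangentι ∘ₗ (Algebra.Extension.H1Cotangent.map f).liftBaseChange C := by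
    ext z
    simp
  refine (LinearMap.congr_fun e (x - y)).trans ?_
  rw [LinearMap.comp_apply, Subsingleton.elim ((Algebra.Extension.H1Cotangent.map f).liftBaseChange C (x - y)) 0]
  exact map_zero _

theorem smooth_of_smooth (A B C : Type u) [CommRing A] [CommRing B] [CommRing C]
    [Algebra A B] [Algebra B C] [Algebra A C] [IsScalarTower A B C] [Algebra.Smooth B C]
    [Module.FaithfullyFlat B C] [Algebra.Smooth A C] : Algebra.Smooth A B := by
  have := finitePresentation_of_smooth A B C
  refine ⟨?_, inferInstance⟩
  rw [Algebra.formallySmooth_iff]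
  constructor
  · have hinj : Function.Injective (KaehlerDifferential.mapBaseChange A B C) := by
      rw [injective_iff_map_eq_zero]
      intro x hx
      obtain ⟨x, rfl⟩ := (Algebra.H1Cotangent.exact_δ_mapBaseChange A B C x).mp hx
      rw [Subsingleton.elim x 0, map_zero]
    have hex := KaehlerDifferential.exact_mapBaseChange_map A B C
    obtain ⟨l, hl⟩ := Module.projective_lifting_property _ LinearMap.id (KaehlerDifferential.map_surjective A B C)
    obtain ⟨r, hr⟩ := ((Function.Exact.split_tfae hex hinj (KaehlerDifferential.map_surjective A B C)).out 0 1 rfl rfl).1 ⟨l, hl⟩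
    haveI : Module.Projective C (C ⊗[B] Ω[B⁄A]) := .of_split _ r hr
    haveI : Module.Flat B Ω[B⁄A] := Module.Flat.of_flat_tensorProduct _ _ C
    exact Module.Flat.projective_of_finitePresentation
  · refine subsingleton_iff.2 fun x y => sub_eq_zero.1 ?_
    by_contra hne
    obtain ⟨m, hm, hle⟩ := Ideal.exists_le_maximal
      (LinearMap.ker (LinearMap.toSpanSingleton B (Algebra.H1Cotangent A B) (x - y))) (by
        intro h
        apply hne
        have : (1 : B) ∈ LinearMap.ker (LinearMap.toSpanSingleton B (Algebra.H1Cotangent A B) (x - y)) := h ▸ Submodule.mem_top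
        simpa using this)
    obtain ⟨q, hq⟩ := PrimeSpectrum.comap_surjective_of_faithfullyFlat (A := B) (B := C) ⟨m, hm.isPrime⟩
    haveI := q.2
    haveI : Algebra.IsSmoothAt B q.asIdeal := Algebra.FormallySmooth.comp B C (Localization.AtPrime q.asIdeal)
    obtain ⟨g, hg, hstd⟩ := Algebra.IsSmoothAt.exists_notMem_isStandardSmooth B q.asIdeal
    let C' := Localization.Away g
    haveI : Algebra.Smooth A C' := Algebra.Smooth.comp A C C'
    haveI := subsingleton_tensor_h1Cotangent A B C'
    let J : Ideal B := LinearMap.ker (LinearMap.toSpanSingleton B (Algebra.H1Cotangent A B) (x - y))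
    let ι : (B ⧸ J) →ₗ[B] Algebra.H1Cotangent A B := Submodule.liftQ J (LinearMap.toSpanSingleton B _ (x - y)) le_rfl
    have hι : Function.Injective ι := by
      rw [← LinearMap.ker_eq_bot]; exact Submodule.ker_liftQ_eq_bot' _ _ rfl
    have h1 : (1 : C') ⊗ₜ[B] (1 : B ⧸ J) = 0 :=
      Module.Flat.lTensor_preserves_injective_linearMap ι hι (Subsingleton.elim _ _)
    have hprime : (q.asIdeal.map (algebraMap C C')).IsPrime := by
      apply IsLocalization.isPrime_of_isPrime_disjoint (.powers g) _ _ q.2
      rwa [Ideal.disjoint_powers_iff_notMem_of_isPrime]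
    have hJ : J.map (algebraMap B C') ≤ q.asIdeal.map (algebraMap C C') := by
      rw [IsScalarTower.algebraMap_eq B C C', ← Ideal.map_map]
      refine Ideal.map_mono (Ideal.map_le_iff_le_comap.2 (hle.trans ?_))
      exact (congrArg PrimeSpectrum.asIdeal hq).ge
    have hJtop : J.map (algebraMap B C') = ⊤ := by
      rw [Ideal.eq_top_iff_one, ← Ideal.Quotient.eq_zero_iff_mem]
      let ψ : B ⧸ J →ₐ[B] C' ⧸ J.map (algebraMap B C') :=
        Ideal.Quotient.liftₐ J (Algebra.ofId B _) fun x hx => by
          rw [Algebra.ofId_apply, IsScalarTower.algebraMap_apply B C' (C' ⧸ J.map (algebraMap B C')),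
            Ideal.Quotient.algebraMap_eq, Ideal.Quotient.eq_zero_iff_mem]
          exact Ideal.mem_map_of_mem _ hx
      have := congrArg (Algebra.TensorProduct.lift (Ideal.Quotient.mkₐ B (J.map (algebraMap B C'))) ψ
        (fun _ _ => Commute.all _ _)) h1
      simpa using this
    exact hprime.ne_top (top_le_iff.1 (hJtop.ge.trans hJ))

lemma descendsSmSource_finitePresentation : DescendsSmSource @RingHom.FinitePresentation := by
  intro A B C _ _ _ f g hg hff h
  algebraize [f, g, g.comp f]
  rw [← RingHom.algebraMap_toAlgebra f, RingHom.finitePresentation_algebraMap]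
  exact finitePresentation_of_smooth A B C

lemma descendsSmSource_smooth : DescendsSmSource @RingHom.Smooth := by
  intro A B C _ _ _ f g hg hff h
  algebraize [f, g, g.comp f]
  rw [← RingHom.algebraMap_toAlgebra f, RingHom.smooth_algebraMap]
  exact smooth_of_smooth A B C

end Groth.Agent.EtDescent

namespace Groth.Agent.ASp

open Groth.Agent.EtDescent

/-- Properties of morphisms of schemes local for the smooth topology on the source. -/
class IsSmLocal (M : MorphismProperty Scheme.{u}) : Prop where
  smooth_le : ∀ {X Y : Scheme.{u}} (f : X ⟶ Y), Smooth f → M f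
  of_precomp_smooth : ∀ {X Y Z : Scheme.{u}} (f : X ⟶ Y) (g : Y ⟶ Z),
    Smooth f → Surjective f → M (f ≫ g) → M g

instance : IsSmLocal @Flat.{u} where
  smooth_le f h := by have : Smooth f := h; infer_instance
  of_precomp_smooth f g _ _ h := of_precomp_smooth (P := @Flat) descendsSmSource_flat f g h

instance : IsSmLocal @LocallyOfFiniteType.{u} where
  smooth_le f h := by have : Smooth f := h; infer_instance
  of_precomp_smooth f g _ _ h := of_precomp_smooth (P := @LocallyOfFiniteType) descendsSmSource_finiteType f g h

instance : IsSmLocal @LocallyOfFinitePresentation.{u} where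
  smooth_le f h := by have : Smooth f := h; infer_instance
  of_precomp_smooth f g _ _ h :=
    of_precomp_smooth (P := @LocallyOfFinitePresentation) descendsSmSource_finitePresentation f g h

instance : IsSmLocal @Smooth.{u} where
  smooth_le f h := h
  of_precomp_smooth f g _ _ h := of_precomp_smooth (P := @Smooth) descendsSmSource_smooth f g h

end Groth.Agent.ASp
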