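import Groth.Agent.EtDescent.Scheme
import Mathlib.RingTheory.Smooth.NoetherianDescent
import Mathlib.AlgebraicGeometry.Morphisms.Smooth
/-!
Finite type descends along surjective smooth maps on the source.
-/

set_option backward.isDefEq.respectTransparency.types false

universe u

open CategoryTheory CategoryTheory.Limits AlgebraicGeometry TensorProduct

namespace Groth.Agent.EtDescent

lemma exists_ideal_compl_range' (R C₀ : Type u) [CommRing R] [CommRing C₀] [Algebra R C₀]
    [Algebra.Smooth R C₀] :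
    ∃ I : Ideal R, ∀ p : PrimeSpectrum R, I ≤ p.asIdeal ↔ p ∉ Set.range (PrimeSpectrum.comap (algebraMap R C₀)) := by
  have h : IsOpen (Set.range (PrimeSpectrum.comap (algebraMap R C₀))) :=
    (PrimeSpectrum.isOpenMap_comap_of_hasGoingDown_of_finitePresentation (R := R) (S := C₀)).isOpen_range
  obtain ⟨I, hI⟩ := (PrimeSpectrum.isClosed_iff_zeroLocus_ideal _).1 h.isClosed_compl
  refine ⟨I, fun p => ?_⟩
  have := Set.ext_iff.1 hI p
  simpa [PrimeSpectrum.mem_zeroLocus] using this.symm

/-- Finite type descends along faithfully flat smooth maps on the source. -/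
theorem finiteType_of_smooth (A B C : Type u) [CommRing A] [CommRing B] [CommRing C] [Algebra A B]
    [Algebra B C] [Algebra A C] [IsScalarTower A B C] [Algebra.Smooth B C] [Module.FaithfullyFlat B C]
    [Algebra.FiniteType A C] : Algebra.FiniteType A B := by
  classical
  obtain ⟨B₀, C₀, _, _, hB₀, _, ⟨e⟩⟩ := Algebra.Smooth.exists_subalgebra_fg A B C
  obtain ⟨I, hI⟩ := exists_ideal_compl_range' B₀ C₀
  -- generators
  let Φ : B ⊗[B₀] C₀ →ₐ[B] C := e.symm.toAlgHom
  have hIB : I.map (algebraMap B₀ B) = ⊤ := by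
    apply Ideal.map_injective_of_faithfullyFlat (A := B) (B := C)
    change (I.map (algebraMap B₀ B)).map (algebraMap B C) = (⊤ : Ideal B).map (algebraMap B C)
    rw [Ideal.map_top, Ideal.map_map, eq_top_iff]
    calc (⊤ : Ideal C) = ((I.map (algebraMap B₀ C₀)).map
          (Φ.toRingHom.comp Algebra.TensorProduct.includeRight.toRingHom)) := by
            rw [map_compl_range_eq_top hI, Ideal.map_top]
      _ ≤ _ := by
        rw [Ideal.map_map]
        refine le_of_eq (congrArg (fun f => Ideal.map f I) (RingHom.ext fun r => ?_))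
        have : (1 : B) ⊗ₜ[B₀] (algebraMap B₀ C₀ r) = algebraMap B₀ B r ⊗ₜ[B₀] (1 : C₀) := by
          rw [Algebra.algebraMap_eq_smul_one, Algebra.algebraMap_eq_smul_one, tmul_smul, smul_tmul']
        simp only [RingHom.comp_apply, AlgHom.toRingHom_eq_coe, RingHom.coe_coe,
          Algebra.TensorProduct.includeRight_apply, this]
        exact Φ.commutes (algebraMap B₀ B r)
  obtain ⟨t, htop⟩ := (Algebra.FiniteType.out : (⊤ : Subalgebra A C).FG)
  choose rep hrep using fun x : C => TensorProduct.exists_finset (R := B₀) (e x)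
  obtain ⟨k, a, x, ha⟩ : ∃ (k : ℕ) (a : Fin k → B) (x : Fin k → I),
      ∑ j, a j * algebraMap B₀ B (x j) = 1 := by
    have h1 : (1 : B) ∈ Ideal.span (algebraMap B₀ B '' (I : Set B₀)) := by
      have := hIB; rw [Ideal.map] at this; rw [this]; trivial
    obtain ⟨k, a, x, h⟩ := Submodule.mem_span_set'.1 h1
    choose y hy hy' using fun j => (x j).2
    exact ⟨k, a, fun j => ⟨y j, hy j⟩, by simpa [hy'] using h⟩
  let F : Finset B := (t.biUnion fun c => (rep c).image Prod.fst) ∪ Finset.univ.image a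
  let B₂ : Subalgebra A B := B₀ ⊔ Algebra.adjoin A (F : Set B)
  have hB₂ : B₂.FG := hB₀.sup ⟨F, rfl⟩
  suffices hall : B₂ = ⊤ from ⟨hall ▸ hB₂⟩
  let T : Submodule B₀ B :=
    { carrier := B₂
      add_mem' := B₂.add_mem
      zero_mem' := B₂.zero_mem
      smul_mem' := fun r z hz => B₂.mul_mem ((le_sup_left : B₀ ≤ B₂) r.2) hz }
  have hgen : ∀ z : B ⊗[B₀] C₀, z ∈ LinearMap.range (T.subtype.rTensor C₀) := by
    let R' : Subalgebra A (B ⊗[B₀] C₀) :=
      { carrier := LinearMap.range (T.subtype.rTensor C₀)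
        add_mem' := Submodule.add_mem _
        mul_mem' := by
          rintro _ _ ⟨u, rfl⟩ ⟨v, rfl⟩
          induction u using TensorProduct.induction_on with
          | zero => simp
          | add u u' hu hu' => rw [map_add, add_mul]; exact Submodule.add_mem _ hu hu'
          | tmul p c =>
            induction v using TensorProduct.induction_on with
            | zero => simp
            | add v v' hv hv' => rw [map_add, mul_add]; exact Submodule.add_mem _ hv hv'
            | tmul q d => exact ⟨(⟨p.1 * q.1, B₂.mul_mem p.2 q.2⟩ : T) ⊗ₜ[B₀] (c * d), by simp⟩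
        algebraMap_mem' := fun r => ⟨(⟨algebraMap A B r, B₂.algebraMap_mem r⟩ : T) ⊗ₜ[B₀] 1, by simp⟩ }
    intro z
    have hle : ⊤ ≤ R'.comap ((e : C →ₐ[B] B ⊗[B₀] C₀).restrictScalars A) := by
      rw [← htop, Algebra.adjoin_le_iff]
      intro c hc
      change e c ∈ LinearMap.range (T.subtype.rTensor C₀)
      rw [hrep c]
      refine Submodule.sum_mem _ fun i hi => ⟨(⟨i.1, (le_sup_right : _ ≤ B₂)
        (Algebra.subset_adjoin (by simp only [F, Finset.coe_union, Set.mem_union, Finset.mem_coe, Finset.mem_biUnion, Finset.mem_image, Finset.mem_univ, true_and]; exact Or.inl ⟨c, hc, i, hi, rfl⟩))⟩ : T) ⊗ₜ[B₀] i.2, by simp⟩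
    have := hle (show e.symm z ∈ (⊤ : Subalgebra A C) from Algebra.mem_top)
    change e (e.symm z) ∈ LinearMap.range (T.subtype.rTensor C₀) at this
    rwa [AlgEquiv.apply_symm_apply] at this
  rw [eq_top_iff]
  intro b _
  let B₂' : Subalgebra B₀ B :=
    { carrier := B₂
      add_mem' := B₂.add_mem
      mul_mem' := B₂.mul_mem
      algebraMap_mem' := fun r => (le_sup_left : B₀ ≤ B₂) r.2 }
  let T' : Submodule B₂' B :=
    { carrier := B₂
      add_mem' := B₂.add_mem
      zero_mem' := B₂.zero_mem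
      smul_mem' := fun r z hz => B₂.mul_mem r.2 hz }
  have hIS : I.map (algebraMap B₀ B₂') = ⊤ := by
    rw [Ideal.eq_top_iff_one]
    have e1 : (1 : B₂') = ∑ j, (⟨a j, (le_sup_right : _ ≤ B₂) (Algebra.subset_adjoin (by simp [F]))⟩ : B₂') * algebraMap B₀ B₂' (x j) := by
      apply Subtype.ext; simp [← ha]
    rw [e1]
    exact Ideal.sum_mem _ fun j _ => Ideal.mul_mem_left _ _ (Ideal.mem_map_of_mem _ (x j).2)
  have hzero : (1 : C₀) ⊗ₜ[B₀] (T'.mkQ b) = 0 := by
    obtain ⟨w, hw⟩ := hgen (b ⊗ₜ[B₀] 1)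
    have := congrArg ((TensorProduct.comm B₀ _ _).toLinearMap ∘ₗ (T'.mkQ.restrictScalars B₀).rTensor C₀) hw
    have h0 : (T'.mkQ.restrictScalars B₀).rTensor C₀ (T.subtype.rTensor C₀ w) = 0 := by
      rw [← LinearMap.rTensor_comp_apply]
      have : T'.mkQ.restrictScalars B₀ ∘ₗ T.subtype = 0 := LinearMap.ext fun z =>
        (Submodule.Quotient.mk_eq_zero T').2 z.2
      rw [this, LinearMap.rTensor_zero]; rfl
    simpa [h0] using this.symm
  exact (Submodule.Quotient.mk_eq_zero T').1 (eq_zero_of_one_tmul_eq_zero (S := B₂') hI hIS _ hzero)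

/-- `Q` descends along faithfully flat smooth maps on the source. -/
def DescendsSmSource (Q : ∀ {R S : Type u} [CommRing R] [CommRing S], (R →+* S) → Prop) : Prop :=
  ∀ ⦃A B C : Type u⦄ [CommRing A] [CommRing B] [CommRing C] (f : A →+* B) (g : B →+* C),
    g.Smooth → g.FaithfullyFlat → Q (g.comp f) → Q f

lemma descendsSmSource_finiteType : DescendsSmSource @RingHom.FiniteType := by
  intro A B C _ _ _ f g hg hff h
  algebraize [f, g, g.comp f]
  rw [← RingHom.algebraMap_toAlgebra f, RingHom.finiteType_algebraMap]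
  exact finiteType_of_smooth A B C

lemma descendsSmSource_flat : DescendsSmSource @RingHom.Flat := by
  intro A B C _ _ _ f g hg hff h
  algebraize [f, g, g.comp f]
  rw [← RingHom.algebraMap_toAlgebra f, RingHom.flat_algebraMap_iff]
  exact flat_of_faithfullyFlat A B C

/-- An affine smooth cover of an affine scheme refining a given surjective smooth map. -/
lemma exists_affine_refinement_smooth {X Y : Scheme.{u}} [IsAffine Y] (g : X ⟶ Y) [Smooth g] [Surjective g] :
    ∃ (W : Scheme.{u}) (w : W ⟶ X), IsAffine W ∧ IsZariskiLocalAtSource.{u} @Smooth ∧ Smooth (w ≫ g) ∧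
      Surjective (w ≫ g) ∧ ∀ {Z : Scheme.{u}} (P : MorphismProperty Scheme.{u})
        [IsZariskiLocalAtSource P] (h : X ⟶ Z), P h → P (w ≫ h) := by
  let 𝒰 := X.affineCover
  obtain ⟨t, ht⟩ := isCompact_univ.elim_finite_subcover (fun i => g '' Set.range (𝒰.f i))
    (fun i => g.isOpenMap _ (𝒰.f i).isOpenEmbedding.isOpen_range)
    (fun y _ => by
      obtain ⟨x, rfl⟩ := g.surjective y
      exact Set.mem_iUnion.2 ⟨𝒰.idx x, x, 𝒰.covers x, rfl⟩)
  let W : Scheme.{u} := ∐ fun i : t => 𝒰.X i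
  let w : W ⟶ X := Sigma.desc fun i : t => 𝒰.f i
  have hloc : ∀ {Z : Scheme.{u}} (P : MorphismProperty Scheme.{u}) [IsZariskiLocalAtSource P]
      (h : X ⟶ Z), P h → P (w ≫ h) := by
    intro Z P _ h hh
    rw [IsZariskiLocalAtSource.iff_of_openCover (P := P) (sigmaOpenCover fun i : t => 𝒰.X i)]
    intro i
    have e : (sigmaOpenCover fun i : t => 𝒰.X i).f i ≫ w = 𝒰.f (i : t).1 := Sigma.ι_desc _ _
    rw [← Category.assoc, e]
    exact @IsZariskiLocalAtSource.comp P _ _ _ h _ hh (𝒰.f (i : t).1) (𝒰.map_prop _)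
  refine ⟨W, w, inferInstanceAs (IsAffine W), inferInstance, hloc @Smooth g ‹_›, ⟨fun y => ?_⟩,
    fun P _ h hh => hloc P h hh⟩
  obtain ⟨i, hi, _, ⟨v, rfl⟩, rfl⟩ := Set.mem_iUnion₂.1 (ht (Set.mem_univ y))
  refine ⟨Sigma.ι (fun i : t => 𝒰.X i) ⟨i, hi⟩ v, ?_⟩
  rw [← Scheme.Hom.comp_apply, ← Category.assoc]
  exact congrArg (fun k : 𝒰.X i ⟶ X => g (k v)) (Sigma.ι_desc (fun i : t => 𝒰.f i) ⟨i, hi⟩)

/-- A Zariski local property given by a ring map property descending along faithfully flat smooth maps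
descends along surjective smooth morphisms on the source. -/
theorem of_precomp_smooth {P : MorphismProperty Scheme.{u}}
    {Q : ∀ {R S : Type u} [CommRing R] [CommRing S], (R →+* S) → Prop} [HasRingHomProperty P Q]
    (hQ : DescendsSmSource Q) {X Y Z : Scheme.{u}} (g : X ⟶ Y) (h : Y ⟶ Z) [Smooth g] [Surjective g]
    (hgh : P (g ≫ h)) : P h := by
  have := HasRingHomProperty.HasAffineProperty P
  rw [HasRingHomProperty.iff_appLE (P := P)]
  intro U V e
  have : IsAffine (V : Scheme.{u}) := V.2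
  have : IsAffine (U : Scheme.{u}) := U.2
  have : Smooth (g ∣_ V.1) := IsZariskiLocalAtTarget.restrict (P := @Smooth) ‹_› V.1
  have : Surjective (g ∣_ V.1) := IsZariskiLocalAtTarget.restrict (P := @Surjective) ‹_› V.1
  obtain ⟨W, w, hW, -, hw1, hw2, hloc⟩ := exists_affine_refinement_smooth (g ∣_ V.1)
  have hP1 : P (g ∣_ V.1 ≫ h.resLE U.1 V.1 e) := by
    have e1 : g ∣_ V.1 ≫ h.resLE U.1 V.1 e = (g ≫ h).resLE U.1 (g ⁻¹ᵁ V.1)
        (fun x hx => e hx) := by
      apply (cancel_mono U.1.ι).1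
      rw [Category.assoc, Scheme.Hom.resLE_comp_ι, morphismRestrict_ι_assoc,
        Scheme.Hom.resLE_comp_ι]
    rw [e1]
    exact IsZariskiLocalAtSource.resLE _ hgh
  have hP2 : P (w ≫ g ∣_ V.1 ≫ h.resLE U.1 V.1 e) := hloc P _ hP1
  rw [← Category.assoc, HasRingHomProperty.iff_of_isAffine (P := P), Scheme.Hom.comp_appTop,
    CommRingCat.hom_comp] at hP2
  have hE : (w ≫ g ∣_ V.1).appTop.hom.Smooth := HasRingHomProperty.appTop (P := @Smooth) _ hw1
  have hF : (w ≫ g ∣_ V.1).appTop.hom.FaithfullyFlat := by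
    refine RingHom.FaithfullyFlat.iff_flat_and_comap_surjective.2
      ⟨HasRingHomProperty.appTop (P := @Flat) _ (by have := hw1; infer_instance), ?_⟩
    have : Surjective (Spec.map (w ≫ g ∣_ V.1).appTop) :=
      (MorphismProperty.arrow_mk_iso_iff @Surjective (arrowIsoSpecΓOfIsAffine _)).1 hw2
    exact (Spec.map (w ≫ g ∣_ V.1).appTop).surjective
  have h3 := hQ _ _ hE hF hP2
  have hri : RingHom.RespectsIso Q := (HasRingHomProperty.isLocal_ringHomProperty P).respectsIso
  exact (hri.arrow_mk_iso_iff (arrowResLEAppIso h U.1 V.1 e)).1 h3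

lemma locallyOfFiniteType_of_precomp_smooth {X Y Z : Scheme.{u}} (g : X ⟶ Y) (h : Y ⟶ Z) [Smooth g]
    [Surjective g] [LocallyOfFiniteType (g ≫ h)] : LocallyOfFiniteType h :=
  of_precomp_smooth (P := @LocallyOfFiniteType) descendsSmSource_finiteType g h ‹_›

end Groth.Agent.EtDescent
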